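import Groth.Agent.PicInsep.Power
import Groth.Agent.TorsPic.Iso
import Groth.Agent.H23.CocycleMod
import Groth.Agent.AmpleX.Extend
import Groth.Agent.InvX.Pullback
import Groth.Agent.InvX.GenLocusPull
import Groth.Prelude.Def_MoreMor

/-!
# Prime-to-`p` torsion classes descend along purely inseparable base change
-/

set_option autoImplicit false
set_option linter.style.haveILetI false
set_option backward.isDefEq.respectTransparency false
set_option backward.isDefEq.respectTransparency.types false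
set_option maxHeartbeats 1000000

universe u

open CategoryTheory CategoryTheory.Limits AlgebraicGeometry TopologicalSpace

namespace Groth.Agent.PicInsep

open Groth.Agent Groth.Agent.AModX Groth.Agent.InvX Groth.Agent.AmpleX

variable {k K : Type u} [Field k] [Field K] [Algebra k K] [IsPurelyInseparable k K] {p : ℕ} [ExpChar k p]
  {X X' : Scheme.{u}} {f : X ⟶ Spec (CommRingCat.of k)} {π : X' ⟶ X} {s : X' ⟶ Spec (CommRingCat.of K)}
  (h : IsPullback π s f (Spec.map (CommRingCat.ofHom (algebraMap k K))))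
  [IsAffineHom π] [Flat π] [Surjective π]

include h in
theorem injective (hp : 0 < p) : Function.Injective π := by
  intro q q' hqq
  obtain ⟨_, ⟨U, hU, rfl⟩, hqU, -⟩ := X.isBasis_affineOpens.exists_subset_of_mem_open
    (show π q ∈ (⊤ : X.Opens) from trivial) (⊤ : X.Opens).2
  have hq' : q' ∈ π ⁻¹ᵁ U := show π q' ∈ U from hqq ▸ hqU
  obtain ⟨P, hP⟩ : q ∈ Set.range (hU.preimage π).fromSpec := by rw [(hU.preimage π).range_fromSpec]; exact hqU
  obtain ⟨P', hP'⟩ : q' ∈ Set.range (hU.preimage π).fromSpec := by rw [(hU.preimage π).range_fromSpec]; exact hq'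
  have hw := (H23.CoverPush.isPullback_fromSpec π hU).w
  have e : Spec.map (π.app U) P = Spec.map (π.app U) P' := by
    refine hU.fromSpec.isOpenEmbedding.injective ?_
    rw [← Scheme.Hom.comp_apply, hw, ← Scheme.Hom.comp_apply, hw, Scheme.Hom.comp_apply, Scheme.Hom.comp_apply, hP, hP', hqq]
  have key : ∀ (A B : PrimeSpectrum Γ(X', π ⁻¹ᵁ U)),
      PrimeSpectrum.comap (π.app U).hom A = PrimeSpectrum.comap (π.app U).hom B → A.asIdeal ≤ B.asIdeal := by
    intro A B hAB a ha
    obtain ⟨N, b, hb⟩ := exists_pow_mem_affine (p := p) h hU a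
    have hpow : π.app U b ∈ A.asIdeal := hb ▸ Ideal.pow_mem_of_mem _ ha _ (pow_pos hp N)
    have hb' : b ∈ (PrimeSpectrum.comap (π.app U).hom B).asIdeal := hAB ▸ hpow
    have hB : a ^ p ^ N ∈ B.asIdeal := hb ▸ hb'
    exact B.isPrime.mem_of_pow_mem _ hB
  have hPP : P = P' := PrimeSpectrum.ext (le_antisymm (key P P' e) (key P' P e.symm))
  rw [← hP, ← hP', hPP]

include h in
theorem exists_chart (hp : 0 < p) [UniversallyClosed π] {L : X'.Modules} (hL : PicF.IsInvertible L) (x : X) :
    ∃ (U : X.Opens) (_ : x ∈ U) (_ : IsAffineOpen U) (e : Γ(L, π ⁻¹ᵁ U)), IsFrame e := by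
  obtain ⟨q, rfl⟩ := π.surjective x
  obtain ⟨V, hqV, e, he⟩ := exists_frame hL q
  let O : X.Opens := ⟨(π '' (V : Set X')ᶜ)ᶜ, (π.isClosedMap _ V.2.isClosed_compl).isOpen_compl⟩
  have hqO : π q ∈ O := by
    rintro ⟨r, hr, hrq⟩
    exact hr (injective (p := p) h hp hrq ▸ hqV)
  obtain ⟨_, ⟨U, hU, rfl⟩, hqU, hUO⟩ := X.isBasis_affineOpens.exists_subset_of_mem_open hqO O.2
  have hle : π ⁻¹ᵁ U ≤ V := fun y hy => by
    by_contra hyV
    exact hUO hy ⟨y, hyV, rfl⟩
  exact ⟨U, hqU, hU, _, he.res hle⟩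

include h in
theorem exists_descent (hp : 0 < p) [UniversallyClosed π] [CompactSpace X] [QuasiSeparatedSpace X]
    (n : ℕ) (hn : 0 < n) (hpn : Nat.Coprime p n) (L : X'.Modules) (hL : PicF.IsInvertible L)
    (φ : CohB1.tensorPow L n ≅ Coh.structureModule X') :
    ∃ L' : X.Modules, PicF.IsInvertible L' ∧ Nonempty (CohB1.tensorPow L' n ≅ Coh.structureModule X) ∧
      Nonempty ((Scheme.Modules.pullback π).obj L' ≅ L) := by
  classical
  have hinj := H23.GeomConnGamma.app_injective π
  choose U₀ hxU₀ hU₀ e₀ he₀ using exists_chart (p := p) h hp hL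
  obtain ⟨S, hS⟩ := isCompact_univ.elim_finite_subcover (fun x => (U₀ x : Set X)) (fun x => (U₀ x).2)
    (fun x _ => Set.mem_iUnion.2 ⟨x, hxU₀ x⟩)
  let I : Type u := {x : X // x ∈ S}
  let U : I → X.Opens := fun i => U₀ i.1
  have hU : ∀ i, IsAffineOpen (U i) := fun i => hU₀ i.1
  let e : ∀ i, Γ(L, π ⁻¹ᵁ U i) := fun i => e₀ i.1
  have he : ∀ i, IsFrame (e i) := fun i => he₀ i.1
  have hcov : ∀ x : X, ∃ i, x ∈ U i := fun x => by
    obtain ⟨y, hy, hxy⟩ := Set.mem_iUnion₂.1 (hS (Set.mem_univ x))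
    exact ⟨⟨y, hy⟩, hxy⟩
  have hε : ∀ i, ∃ a : Γ(X', π ⁻¹ᵁ U i), IsUnit a ∧
      (show Γ(Coh.structureModule X', π ⁻¹ᵁ U i) from a) = φ.hom.app _ (powElt (e i) n) := by
    intro i
    refine ⟨φ.hom.app _ (powElt (e i) n), ?_, rfl⟩
    obtain ⟨r, hr⟩ := ((isFrame_powElt (he i) n).map_iso φ).exists_coord le_rfl
      (show Γ(Coh.structureModule X', π ⁻¹ᵁ U i) from (1 : Γ(X', π ⁻¹ᵁ U i)))
    rw [res_self] at hr
    exact IsUnit.of_mul_eq_one r ((mul_comm _ _).trans hr.symm)
  choose a hau ha using hε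
  choose g hg using fun i j => (he j).exists_coord
    (π.preimage_mono (inf_le_right : U i ⊓ U j ≤ U j)) (res L (π.preimage_mono (inf_le_left : U i ⊓ U j ≤ U i)) (e i))
  have hga : ∀ i j, g i j ^ n * resR (π.preimage_mono (inf_le_right : U i ⊓ U j ≤ U j)) (a j) =
      resR (π.preimage_mono (inf_le_left : U i ⊓ U j ≤ U i)) (a i) := by
    intro i j
    have h1 := congrArg (fun z => φ.hom.app _ (powElt z n)) (hg i j)
    simp only [powElt_smul, ← res_powElt, Scheme.Modules.Hom.app_smul, app_res] at h1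
    rw [← ha i, ← ha j] at h1
    exact h1.symm
  have hgu : ∀ i j, IsUnit (g i j) := fun i j => (isUnit_pow_iff hn.ne').1
    (isUnit_of_mul_isUnit_left (hga i j ▸ (hau i).map _))
  choose N hN using fun i j => exists_pow_mem (p := p) h
    (QuasiSeparatedSpace.inter_isCompact _ _ (U i).2 (hU i).isCompact (U j).2 (hU j).isCompact
      : IsCompact ((U i ⊓ U j : X.Opens) : Set X)) (g i j)
  choose N' hN' using fun i => exists_pow_mem (p := p) h (hU i).isCompact (a i)
  let M := (Finset.univ.sup fun ij : I × I => N ij.1 ij.2) ⊔ Finset.univ.sup N'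
  obtain ⟨b, hb0, t, ht⟩ : ∃ b, 0 < b ∧ ∃ t, b * p ^ M = 1 + n * t := by
    rcases Nat.lt_or_ge 1 n with hn1 | hn1
    · obtain ⟨c, -, hc⟩ := Nat.exists_mul_mod_eq_of_coprime 1 (hpn.pow_left M) hn.ne'
      rw [Nat.mod_eq_of_lt hn1] at hc
      have := Nat.div_add_mod (p ^ M * c) n
      rw [hc] at this
      refine ⟨c + n, by omega, (p ^ M * c) / n + p ^ M, ?_⟩
      calc (c + n) * p ^ M = p ^ M * c + n * p ^ M := by ring
        _ = n * (p ^ M * c / n) + 1 + n * p ^ M := by rw [this]
        _ = _ := by ring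
    · refine ⟨1, Nat.one_pos, p ^ M - 1, ?_⟩
      have h1 : 0 < p ^ M := pow_pos hp M
      obtain rfl : n = 1 := by omega
      omega
  let m := b * p ^ M
  have hm : 0 < m := Nat.mul_pos hb0 (pow_pos hp M)
  have hG : ∀ i j, ∃ G : Γ(X, U i ⊓ U j), π.app _ G = g i j ^ m := fun i j => by
    obtain ⟨G, hG⟩ := hN i j M ((Finset.le_sup (f := fun ij : I × I => N ij.1 ij.2) (Finset.mem_univ (i, j))).trans le_sup_left)
    exact ⟨G ^ b, by rw [map_pow, hG, ← pow_mul, mul_comm]⟩
  have hA : ∀ i, ∃ A : Γ(X, U i), π.app _ A = a i ^ m := fun i => by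
    obtain ⟨A, hA⟩ := hN' i M ((Finset.le_sup (f := N') (Finset.mem_univ i)).trans le_sup_right)
    exact ⟨A ^ b, by rw [map_pow, hA, ← pow_mul, mul_comm]⟩
  choose G hG1 using hG
  choose A hA1 using hA
  have hunit : ∀ (W : X.Opens) (c : Γ(X, W)), IsUnit (π.app W c) → IsUnit c := fun W c hc => by
    refine (X.toLocallyRingedSpace.toRingedSpace).isUnit_of_isUnit_germ W c fun x hx => ?_
    obtain ⟨q, rfl⟩ := π.surjective x
    have h1 := hc.map (X'.presheaf.germ (π ⁻¹ᵁ W) q hx).hom
    rw [← CommRingCat.comp_apply, ← Scheme.Hom.germ_stalkMap, CommRingCat.comp_apply] at h1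
    exact IsLocalHom.map_nonunit (f := (π.stalkMap q).hom) _ h1
  have hGu : ∀ i j, IsUnit (G i j) := fun i j => hunit _ _ ((hG1 i j).symm ▸ (hgu i j).pow m)
  let co : H23.CocycleMod.Cocycle U :=
    { g := fun i j => (hGu i j).unit
      trans := fun i j l W hi hj hl => by
        simp only [IsUnit.unit_spec]
        refine hinj W ?_
        rw [map_mul, app_resR, app_resR, app_resR, hG1, hG1, hG1, map_pow, map_pow, map_pow, ← mul_pow]
        refine congrArg (· ^ m) ((he l).coord_unique (π.preimage_mono hl) ?_)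
        have e1 := congrArg (res L (π.preimage_mono (le_inf hj hl))) (hg j l)
        have e2 := congrArg (res L (π.preimage_mono (le_inf hi hj))) (hg i j)
        have e3 := congrArg (res L (π.preimage_mono (le_inf hi hl))) (hg i l)
        rw [res_smul, res_res, res_res] at e1 e2 e3
        rw [← e3, mul_comm, mul_smul, ← e1, ← e2] }
  let L' := H23.CocycleMod.mod co
  let F : ∀ i, Γ(L', U i) := H23.CocycleMod.frame co
  have hF : ∀ i, IsFrame (F i) := H23.CocycleMod.isFrame_frame co
  have hres : ∀ i j, res L' (inf_le_left : U i ⊓ U j ≤ U i) (F i) =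
      G i j • res L' (inf_le_right : U i ⊓ U j ≤ U j) (F j) := fun i j => H23.CocycleMod.res_frame co i j
  have hga' : ∀ i j (W : X.Opens) (hi : W ≤ U i) (hj : W ≤ U j), resR (π.preimage_mono hj) (a j) *
      resR (π.preimage_mono (le_inf hi hj)) (g i j) ^ n = resR (π.preimage_mono hi) (a i) := fun i j W hi hj => by
    have e1 := congrArg (resR (π.preimage_mono (le_inf hi hj))) (hga i j)
    rw [map_mul, map_pow, resR_resR, resR_resR] at e1
    rw [← e1, mul_comm]
  refine ⟨L', isInvertible_of_frames fun x => ?_, ?_, ?_⟩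
  · obtain ⟨i, hi⟩ := hcov x
    exact ⟨U i, hi, F i, hF i⟩
  · refine TorsPic.nonempty_iso_of_frames U hcov (fun i => powElt (F i) n)
      (fun i => isFrame_powElt (hF i) n) (fun i => A i • (show Γ(Coh.structureModule X, U i) from (1 : Γ(X, U i))))
      (fun i => (isFrame_one (U i)).isUnit_smul (hunit _ _ ((hA1 i).symm ▸ (hau i).pow m))) fun i j W hi hj z hz => ?_
    have e1 := congrArg (fun c => powElt (res L' (le_inf hj hi) c) n) (hres j i)
    simp only [res_smul, res_res, powElt_smul] at e1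
    rw [res_powElt, res_powElt, e1] at hz
    have hzz : resR (le_inf hj hi) (G j i) ^ n = z := by
      refine (isFrame_powElt ((hF i).res hi) n).coord_unique le_rfl ?_
      rw [res_self]
      exact hz
    show resR hj (A j * 1) = z * resR hi (A i * 1)
    rw [mul_one, mul_one, ← hzz]
    refine hinj W ?_
    rw [map_mul, map_pow, app_resR, app_resR, app_resR, hG1, hA1, hA1, map_pow, map_pow, map_pow,
      ← hga' j i W hj hi]
    ring
  · refine TorsPic.nonempty_iso_of_frames (fun i => π ⁻¹ᵁ U i) (fun x => hcov (π x)) (fun i => pullElt π (F i))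
      (fun i => isFrame_pullElt π (hF i)) (fun i => a i ^ t • e i) (fun i => (he i).isUnit_smul ((hau i).pow t))
      fun i j W hi hj z hz => ?_
    have hW : W ≤ π ⁻¹ᵁ (U j ⊓ U i) := le_inf hj hi
    have e1 := congrArg (fun c => res ((Scheme.Modules.pullback π).obj L') hW (pullElt π c)) (hres j i)
    simp only [pullElt_smul, ← res_pullElt, res_smul, res_res, hG1] at e1
    rw [e1] at hz
    have hzz : resR hW (g j i ^ m) = z := (isFrame_pullElt π (hF i)).coord_unique hi hz
    have e2 := congrArg (res L hW) (hg j i)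
    rw [res_smul, res_res, res_res] at e2
    have e3 := congrArg (resR hW) (hga j i)
    rw [map_mul, map_pow, resR_resR, resR_resR] at e3
    rw [res_smul, res_smul, smul_smul, e2, smul_smul, ← hzz, map_pow, map_pow, map_pow, ← e3]
    refine congrArg (· • res L hi (e i)) ?_
    show _ = resR hW (g j i) ^ m * _
    rw [show m = 1 + n * t from ht, mul_pow, ← pow_mul, pow_add, pow_one]
    ring

end Groth.Agent.PicInsep
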