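import Groth.Agent.H23.GeomConnGamma
import Groth.Agent.AModX.Res
import Mathlib.FieldTheory.PurelyInseparable.Basic

/-!
# Functions on a purely inseparable base change have descending `p`-powers
-/

set_option autoImplicit false
set_option linter.style.haveILetI false
set_option backward.isDefEq.respectTransparency false
set_option backward.isDefEq.respectTransparency.types false

universe u

open CategoryTheory CategoryTheory.Limits AlgebraicGeometry TopologicalSpace

namespace Groth.Agent.PicInsep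

open Groth.Agent Groth.Agent.AModX

theorem app_resR {X Y : Scheme.{u}} (π : X ⟶ Y) {V W : Y.Opens} (h : W ≤ V) (a : Γ(Y, V)) :
    π.app W (resR h a) = resR (π.preimage_mono h) (π.app V a) :=
  congrArg (fun k => k.hom a) (π.naturality (homOfLE h).op)

variable {k K : Type u} [Field k] [Field K] [Algebra k K] {p : ℕ}

/-- On an affine open. -/
theorem exists_pow_mem_affine [IsPurelyInseparable k K] [ExpChar k p] {X X' : Scheme.{u}} {f : X ⟶ Spec (CommRingCat.of k)}
    {π : X' ⟶ X} {s : X' ⟶ Spec (CommRingCat.of K)}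
    (h : IsPullback π s f (Spec.map (CommRingCat.ofHom (algebraMap k K)))) [IsAffineHom π]
    {U : X.Opens} (hU : IsAffineOpen U) (a : Γ(X', π ⁻¹ᵁ U)) :
    ∃ (N : ℕ) (b : Γ(X, U)), π.app U b = a ^ p ^ N := by
  obtain ⟨φ, hφ⟩ := Spec.map_surjective (hU.fromSpec ≫ f)
  letI : Algebra k Γ(X, U) := φ.hom.toAlgebra
  have hφ' : Spec.map (CommRingCat.ofHom (algebraMap k Γ(X, U))) = hU.fromSpec ≫ f := hφ
  have h1 : IsPullback (Spec.map (π.app U)) ((hU.preimage π).fromSpec ≫ s)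
      (Spec.map (CommRingCat.ofHom (algebraMap k Γ(X, U))))
      (Spec.map (CommRingCat.ofHom (algebraMap k K))) := by
    rw [hφ']
    exact (H23.CoverPush.isPullback_fromSpec π hU).paste_vert h
  let e : Spec Γ(X', π ⁻¹ᵁ U) ≅ Spec (CommRingCat.of (TensorProduct k Γ(X, U) K)) :=
    h1.isoPullback ≪≫ pullbackSpecIso k Γ(X, U) K
  have he : e.hom ≫ Spec.map (CommRingCat.ofHom Algebra.TensorProduct.includeLeftRingHom) = Spec.map (π.app U) := by
    rw [Iso.trans_hom, Category.assoc, pullbackSpecIso_hom_fst, IsPullback.isoPullback_hom_fst]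
  obtain ⟨ψ, hψ⟩ := Spec.map_surjective e.hom
  obtain ⟨ψ', hψ'⟩ := Spec.map_surjective e.inv
  have hinv : ψ' ≫ ψ = 𝟙 _ := Spec.map_injective (by rw [Spec.map_comp, hψ, hψ', Spec.map_id, Iso.hom_inv_id])
  have hcomp : CommRingCat.ofHom Algebra.TensorProduct.includeLeftRingHom ≫ ψ = π.app U :=
    Spec.map_injective (by rw [Spec.map_comp, hψ, he])
  obtain ⟨N, b, hb⟩ := IsPurelyInseparable.exists_pow_pow_mem_range_tensorProduct_of_expChar (k := k) (K := K)
    (R := Γ(X, U)) p (ψ'.hom a)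
  refine ⟨N, b, ?_⟩
  have hb' : ψ.hom (algebraMap Γ(X, U) (TensorProduct k Γ(X, U) K) b) = a ^ p ^ N := by
    rw [hb, map_pow]
    refine congrArg (· ^ p ^ N) ?_
    rw [← CommRingCat.comp_apply, hinv]
    rfl
  rw [← hb', ← hcomp]
  rfl

/-- On a quasi-compact open. -/
theorem exists_pow_mem [IsPurelyInseparable k K] [ExpChar k p] {X X' : Scheme.{u}} {f : X ⟶ Spec (CommRingCat.of k)}
    {π : X' ⟶ X} {s : X' ⟶ Spec (CommRingCat.of K)}
    (h : IsPullback π s f (Spec.map (CommRingCat.ofHom (algebraMap k K)))) [IsAffineHom π] [Flat π] [Surjective π]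
    {W : X.Opens} (hW : IsCompact (W : Set X)) (a : Γ(X', π ⁻¹ᵁ W)) :
    ∃ N : ℕ, ∀ M, N ≤ M → ∃ b : Γ(X, W), π.app W b = a ^ p ^ M := by
  classical
  have hinj := H23.GeomConnGamma.app_injective π
  have hsel : ∀ x : W, ∃ U : X.Opens, x.1 ∈ U ∧ IsAffineOpen U ∧ U ≤ W := fun x => by
    obtain ⟨_, ⟨U, hU, rfl⟩, hx, hUW⟩ := X.isBasis_affineOpens.exists_subset_of_mem_open x.2 W.2
    exact ⟨U, hx, hU, hUW⟩
  choose U hxU hU hle using hsel
  obtain ⟨t, ht⟩ := hW.elim_finite_subcover (fun x : W => (U x : Set X)) (fun x => (U x).2)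
    (fun y hy => Set.mem_iUnion.2 ⟨⟨y, hy⟩, hxU ⟨y, hy⟩⟩)
  choose N b hb using fun x : W => exists_pow_mem_affine (p := p) h (hU x) (resR (π.preimage_mono (hle x)) a)
  refine ⟨t.sup N, fun M hM => ?_⟩
  let c : ∀ x : t, Γ(X, U x.1) := fun x => b x.1 ^ p ^ (M - N x.1)
  have hc : ∀ x : t, π.app (U x.1) (c x) = resR (π.preimage_mono (hle x.1)) (a ^ p ^ M) := fun x => by
    have hN : N x.1 ≤ M := (Finset.le_sup x.2).trans hM
    rw [map_pow, hb, ← pow_mul, ← pow_add, Nat.add_sub_cancel' hN, map_pow]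
  have hcov : ∀ y ∈ W, ∃ x : t, y ∈ U x.1 := fun y hy => by
    obtain ⟨x, hx, hy'⟩ := Set.mem_iUnion₂.1 (ht hy)
    exact ⟨⟨x, hx⟩, hy'⟩
  obtain ⟨g, hg, -⟩ := existsUnique_glue (M := Coh.structureModule X) (fun x : t => U x.1) (fun x => hle x.1) hcov c
    fun x y => by
      show resR _ (c x) = resR _ (c y)
      refine hinj _ ?_
      rw [app_resR, app_resR, hc, hc, resR_resR, resR_resR]
  change Γ(X, W) at g
  replace hg : ∀ x : t, resR (hle x.1) g = c x := hg
  refine ⟨g, eq_of_locally (M := Coh.structureModule X') _ _ fun q hq => ?_⟩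
  obtain ⟨x, hx⟩ := hcov (π q) hq
  refine ⟨π ⁻¹ᵁ U x.1, π.preimage_mono (hle x.1), hx, ?_⟩
  show resR _ (π.app W g) = resR _ (a ^ p ^ M)
  rw [← app_resR π (hle x.1), hg, hc]

end Groth.Agent.PicInsep
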